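import Mathlib
import Cfsg.Agent.H831.Types
import Cfsg.Agent.H831.Short
import Cfsg.Agent.OddHalf.D4.Spor.FiTF_m3
import Cfsg.Agent.R08.NoFpf
import Cfsg.Agent.KFacts.FiTF.RQ
import Cfsg.Agent.KFacts.FiTF.FixZ_m3
import Cfsg.Agent.KFacts.FiTTh.Has
import Cfsg.Agent.S2081
import Cfsg.Agent.H740.FiveBase
import Cfsg.Agent.KFacts.FiTF.FrameF
import Cfsg.Agent.H816.Quasi
import Cfsg.Agent.H830.Con22
import Cfsg.Agent.H831.Triple8
import Cfsg.Agent.FastGrp
import Cfsg.Agent.Prune
set_option linter.all false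

section
prune_inst 0x7f00000000000000000000000000000000000000000000000000000000000000000000000000000000000000000000000000000000000000000000000000000000000000000000000000000000000000003fffffffffffffffffffffffffffbeffbdffffffff

-- part: H816/Conc
section
set_option linter.all false
open scoped Cfsg.Agent.FastGrp

-- part: H816/Trans
section
set_option autoImplicit false

/-!
# Transitivity on ordered tuples of distinct commuting transpositions

`TransF D k`: `G` is transitive on the ordered `k`-tuples of distinct commuting members of `D`.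
Fischer groups of type `T6`, `T7`, `T8`: `k ≤ 2`, `3`, `4`.
-/

namespace Cfsg.Agent.H816.Trans

open Cfsg Cfsg.Agent.SporadicStructure.FischerSpace
open Cfsg.Agent.ThreeTransPolar.Lines
open Cfsg.Agent.Fischer160.Inherit
open Cfsg.Agent.Fischer480.Defs hiding FGroup
open Cfsg.Agent.TSp.Orders Cfsg.Agent.TSp.OrdersT Cfsg.Agent.TSp.Perp

universe u

section

variable {G : Type u} [Group G] {D : Set G}

/-- `G` is transitive on the ordered `k`-tuples of distinct commuting members of `D` -/
def TransF (D : Set G) (k : ℕ) : Prop :=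
  ∀ u v : Fin k → G, Function.Injective u → Function.Injective v → (∀ i, u i ∈ D) →
    (∀ i, v i ∈ D) → (∀ i j, Commute (u i) (u j)) → (∀ i j, Commute (v i) (v j)) →
    ∃ g : G, ∀ i, g * u i * g⁻¹ = v i

theorem transF_one (h : FData D) : TransF D 1 := by
  intro u v _ _ hu hv _ _
  obtain ⟨g, hg⟩ := h.single (u 0) (hu 0) (v 0) (hv 0)
  refine ⟨g, fun i => ?_⟩
  rw [Subsingleton.elim i 0]
  exact hg

theorem conj_comm {g a b : G} (h : Commute a b) : Commute (g * a * g⁻¹) (g * b * g⁻¹) := by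
  show g * a * g⁻¹ * (g * b * g⁻¹) = g * b * g⁻¹ * (g * a * g⁻¹)
  calc g * a * g⁻¹ * (g * b * g⁻¹) = g * (a * b) * g⁻¹ := by group
    _ = g * (b * a) * g⁻¹ := by rw [h.eq]
    _ = _ := by group

theorem conj_inj {g a b : G} (h : g * a * g⁻¹ = g * b * g⁻¹) : a = b :=
  mul_left_cancel (mul_right_cancel h)

/-- **The inductive step.** -/
theorem transF_succ (h : FData D) (ht : ThinLines D) {k : ℕ}
    {x : G} (hx : x ∈ D) (hk : TransF (Eb D x) k) : TransF D (k + 1) := by
  intro u v hui hvi hu hv huc hvc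
  have hth := thin_of_thinLines ht hx
  obtain ⟨a, ha⟩ := h.single (u 0) (hu 0) x hx
  obtain ⟨b, hb⟩ := h.single (v 0) (hv 0) x hx
  have key : ∀ (w : Fin (k + 1) → G) (c : G), Function.Injective w → (∀ i, w i ∈ D) →
      (∀ i j, Commute (w i) (w j)) → c * w 0 * c⁻¹ = x →
      (∀ i : Fin k, c * w i.succ * c⁻¹ ∈ Dx D x) ∧
      Function.Injective (fun i : Fin k => β D x (c * w i.succ * c⁻¹)) ∧
      (∀ i : Fin k, β D x (c * w i.succ * c⁻¹) ∈ Eb D x) ∧
      (∀ i j : Fin k, Commute (β D x (c * w i.succ * c⁻¹)) (β D x (c * w j.succ * c⁻¹))) := by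
    intro w c hw hwD hwc hcx
    have h1 : ∀ i : Fin k, c * w i.succ * c⁻¹ ∈ Dx D x := by
      intro i
      refine ⟨h.conj c _ (hwD _), ?_, ?_⟩
      · intro h2
        rw [← hcx] at h2
        have h3 := hw (conj_inj h2)
        exact Fin.succ_ne_zero i h3
      · have h2 := conj_comm (g := c) (hwc 0 i.succ)
        rwa [hcx] at h2
    refine ⟨h1, ?_, fun i => β_mem (h1 i), ?_⟩
    · intro i j hij
      have h2 := β_inj hth (h1 i) (h1 j) hij
      have h3 := hw (conj_inj h2)
      exact Fin.succ_injective k h3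
    · intro i j
      exact (β_commute h hth (h1 i) (h1 j)).2 (conj_comm (hwc _ _))
  obtain ⟨ua, ub, uc, ud⟩ := key u a hui hu huc ha
  obtain ⟨va, vb, vc, vd⟩ := key v b hvi hv hvc hb
  obtain ⟨c, hc⟩ := hk _ _ ub vb uc vc ud vd
  obtain ⟨g, hg, rfl⟩ := β_surj' c
  have hgx : Commute g x := commute_of_mem_HH hg
  refine ⟨b⁻¹ * g * a, ?_⟩
  intro i
  refine Fin.cases ?_ (fun j => ?_) i
  · have h1 : g * x * g⁻¹ = x := by rw [hgx.eq]; group
    calc b⁻¹ * g * a * u 0 * (b⁻¹ * g * a)⁻¹ = b⁻¹ * (g * (a * u 0 * a⁻¹) * g⁻¹) * b := by group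
      _ = b⁻¹ * (b * v 0 * b⁻¹) * b := by rw [ha, h1, hb]
      _ = v 0 := by group
  · have h1 : g * (a * u j.succ * a⁻¹) * g⁻¹ ∈ Dx D x := cj_mem_Dx h hgx (ua j)
    have h2 : g * (a * u j.succ * a⁻¹) * g⁻¹ = b * v j.succ * b⁻¹ := by
      apply β_inj hth h1 (va j)
      have h3 := hc j
      rw [← β_inv hg, ← β_mul hg (mem_HH_of (ua j)),
        ← β_mul (mul_mem hg (mem_HH_of (ua j))) (inv_mem hg)] at h3
      exact h3
    calc b⁻¹ * g * a * u j.succ * (b⁻¹ * g * a)⁻¹
        = b⁻¹ * (g * (a * u j.succ * a⁻¹) * g⁻¹) * b := by group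
      _ = b⁻¹ * (b * v j.succ * b⁻¹) * b := by rw [h2]
      _ = v j.succ := by group

/-- fewer members -/
theorem TransF.of_lists {k : ℕ} (h : TransF D k) {l l' : List G} (hl : l.length = k)
    (hl' : l'.length = k) (hn : l.Nodup) (hn' : l'.Nodup) (hD : ∀ a ∈ l, a ∈ D)
    (hD' : ∀ a ∈ l', a ∈ D) (hc : ∀ a ∈ l, ∀ b ∈ l, Commute a b)
    (hc' : ∀ a ∈ l', ∀ b ∈ l', Commute a b) : ∃ g : G, l.map (fun a => g * a * g⁻¹) = l' := by
  subst hl
  obtain ⟨g, hg⟩ := h (fun i => l.get i) (fun i => l'.get (i.cast hl'.symm))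
    (List.nodup_iff_injective_get.1 hn)
    (fun i j hij => by
      have := List.nodup_iff_injective_get.1 hn' hij
      exact Fin.cast_injective _ this)
    (fun i => hD _ (List.get_mem _ _)) (fun i => hD' _ (List.get_mem _ _))
    (fun i j => hc _ (List.get_mem _ _) _ (List.get_mem _ _))
    (fun i j => hc' _ (List.get_mem _ _) _ (List.get_mem _ _))
  refine ⟨g, ?_⟩
  apply List.ext_get
  · rw [List.length_map, hl']
  · intro n h1 h2
    have h3 : n < l.length := by rwa [List.length_map] at h1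
    have := hg ⟨n, h3⟩
    simpa using this

theorem prod_map_conj (g : G) (l : List G) :
    (l.map (fun a => g * a * g⁻¹)).prod = g * l.prod * g⁻¹ := by
  induction l with
  | nil => simp
  | cons a l ih =>
    rw [List.map_cons, List.prod_cons, ih, List.prod_cons]
    group

/-- the products of `k` distinct commuting members are conjugate -/
theorem TransF.isConj {k : ℕ} (h : TransF D k) {l l' : List G} (hl : l.length = k)
    (hl' : l'.length = k) (hn : l.Nodup) (hn' : l'.Nodup) (hD : ∀ a ∈ l, a ∈ D)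
    (hD' : ∀ a ∈ l', a ∈ D) (hc : ∀ a ∈ l, ∀ b ∈ l, Commute a b)
    (hc' : ∀ a ∈ l', ∀ b ∈ l', Commute a b) : IsConj l.prod l'.prod := by
  obtain ⟨g, hg⟩ := h.of_lists hl hl' hn hn' hD hD' hc hc'
  rw [isConj_iff]
  exact ⟨g, by rw [← hg, prod_map_conj]⟩

end

section

variable {G : Type u} [Group G] {D : Set G}

/-- a Fischer group with thin lines is transitive on the commuting pairs -/
theorem transF_two [Finite G] (F : FGroup D) (ht : ThinLines D) {x : G} (hx : x ∈ D)
    (hE : FGroup (Eb D x)) : TransF D 2 :=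
  transF_succ F.fd ht hx (transF_one hE.fd)

theorem trans_six [Finite G] (F : FGroup D) (h : N6 D) : TransF D 2 := by
  obtain ⟨x, hx⟩ := F.fd.nonempty
  exact transF_two F (thin_N6 h) hx (inherit_N6 F h hx)

theorem n6_Eb [Finite G] (F : FGroup D) (h : N7 D) {x : G} (hx : x ∈ D) : N6 (Eb D x) :=
  n6_transport (cIso_Eb F.fd (thin_N7 h) hx) (h.loc x hx)

/-- **Type `T7`: transitivity on the commuting triples.** -/
theorem trans_seven [Finite G] (F : FGroup D) (h : N7 D) : TransF D 3 := by
  obtain ⟨x, hx⟩ := F.fd.nonempty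
  exact transF_succ F.fd (thin_N7 h) hx (trans_six (inherit_N7 F h hx) (n6_Eb F h hx))

theorem ncomm_N6 {S : Set G} (h : N6 S) {z : G} (hz : z ∈ S) : ∃ w ∈ S, ¬ Commute w z := by
  by_contra hcon
  push Not at hcon
  have h1 : S = {z} := by
    ext y
    constructor
    · intro hy
      exact (perpSub_N6 h y hy z hz (fun d hd _ => hcon d hd)).symm
    · rintro rfl
      exact hz
  have h2 := h.card
  rw [h1, Set.ncard_singleton] at h2
  omega

theorem perpSub_N7 {E : Set G} (h : N7 E) : PerpSub E := by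
  apply perpSub_of_loc
  intro y hy z hz
  exact ncomm_N6 (h.loc y hy) hz

theorem thin_T8 (h : IsT8 D) : ThinLines D :=
  thinLines_of_loc (fun y hy => perpSub_N7 (n7_of_isT7 (h.2.1 y hy)))

theorem inherit_T8 [Finite G] (F : FGroup D) (h : IsT8 D) {x : G} (hx : x ∈ D) :
    FGroup (Eb D x) :=
  inherit F (thin_T8 h) hx (odd_central F (by rw [h.1]; norm_num) hx)

theorem isT7_Eb (F : FGroup D) (h : IsT8 D) {x : G} (hx : x ∈ D) : IsT7 (Eb D x) :=
  Fischer480.Transport.isT7 (Fischer480.Transport.CIso.symm (cIso_Eb F.fd (thin_T8 h) hx))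
    (h.2.1 x hx)

/-- **Type `T8`: transitivity on the commuting quadruples.** -/
theorem trans_eight [Finite G] (F : FGroup D) (h : IsT8 D) : TransF D 4 := by
  obtain ⟨x, hx⟩ := F.fd.nonempty
  exact transF_succ F.fd (thin_T8 h) hx
    (trans_seven (inherit_T8 F h hx) (n7_of_isT7 (isT7_Eb F h hx)))

end

end Cfsg.Agent.H816.Trans
end

-- part: H816/Prods
section
set_option autoImplicit false

/-!
# Products of distinct commuting transpositions: the classes of involutions

`Cover D m`: every involution is the product of at most `m` distinct commuting members of `D`.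
`conclusion` : the statement on the classes of involutions, from `Cover`, `TransF` and `NoRel`.
-/

namespace Cfsg.Agent.H816.Prods

open Cfsg Cfsg.Agent.SporadicStructure.FischerSpace
open Cfsg.Agent.Fischer480.Defs hiding FGroup
open Cfsg.Agent.Fischer160.Inherit (FGroup)
open Cfsg.Agent.TSp.Orders Cfsg.Agent.TSp.OrdersT Cfsg.Agent.TSp.Perp
open Cfsg.Agent.H816.Trans Cfsg.Agent.H831.Short

universe u v

variable {G : Type u} [Group G] {D : Set G}

/-- the list consists of distinct commuting members of `D` -/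
structure Good (D : Set G) (l : List G) : Prop where
  nodup : l.Nodup
  mem : ∀ a ∈ l, a ∈ D
  comm : ∀ a ∈ l, ∀ b ∈ l, Commute a b

theorem Good.nil : Good D [] := ⟨List.nodup_nil, by simp, by simp⟩

theorem Good.cons {a : G} {l : List G} (h : Good D l) (ha : a ∈ D) (hn : a ∉ l)
    (hc : ∀ b ∈ l, Commute a b) : Good D (a :: l) := by
  refine ⟨List.nodup_cons.2 ⟨hn, h.nodup⟩, ?_, ?_⟩
  · intro b hb
    rcases List.mem_cons.1 hb with rfl | hb
    · exact ha
    · exact h.mem b hb
  · intro b hb c hc'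
    rcases List.mem_cons.1 hb with hb | hb
    · rcases List.mem_cons.1 hc' with hc' | hc'
      · rw [hb, hc']
      · rw [hb]; exact hc c hc'
    · rcases List.mem_cons.1 hc' with hc' | hc'
      · rw [hc']; exact (hc b hb).symm
      · exact h.comm b hb c hc'

/-- removal of repetitions -/
theorem exists_good (hsq : ∀ x ∈ D, x * x = 1) (l : List G) (hl : ∀ a ∈ l, a ∈ D)
    (hc : ∀ a ∈ l, ∀ b ∈ l, Commute a b) :
    ∃ l' : List G, Good D l' ∧ l'.length ≤ l.length ∧ (∀ b ∈ l', b ∈ l) ∧ l'.prod = l.prod := by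
  classical
  induction l with
  | nil => exact ⟨[], Good.nil, le_rfl, by simp, rfl⟩
  | cons a l ih =>
    obtain ⟨m, hm, h1, h2, h3⟩ := ih (fun b hb => hl b (List.mem_cons_of_mem _ hb))
      (fun b hb c hc' => hc b (List.mem_cons_of_mem _ hb) c (List.mem_cons_of_mem _ hc'))
    have haD := hl a List.mem_cons_self
    by_cases ha : a ∈ m
    · refine ⟨m.erase a, ⟨hm.nodup.erase a, fun b hb => hm.mem b (List.mem_of_mem_erase hb),
        fun b hb c hc' => hm.comm b (List.mem_of_mem_erase hb) c (List.mem_of_mem_erase hc')⟩,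
        ?_, fun b hb => List.mem_cons_of_mem _ (h2 b (List.mem_of_mem_erase hb)), ?_⟩
      · have := List.length_erase_le (l := m) (a := a)
        rw [List.length_cons]
        omega
      · have hp : (a :: m.erase a).Perm m := (List.perm_cons_erase ha).symm
        have e1 : m.prod = a * (m.erase a).prod := by
          rw [← List.prod_cons]
          exact hp.symm.prod_eq' (List.Pairwise.imp_of_mem (fun {b c} hb hc' _ =>
            hm.comm b hb c hc') hm.nodup)
        rw [List.prod_cons, ← h3, e1, ← mul_assoc, hsq a haD, one_mul]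
    · refine ⟨a :: m, hm.cons haD ha ?_, ?_, ?_, ?_⟩
      · intro b hb
        exact hc a List.mem_cons_self b (List.mem_cons_of_mem _ (h2 b hb))
      · rw [List.length_cons, List.length_cons]; omega
      · intro b hb
        rcases List.mem_cons.1 hb with rfl | hb
        · exact List.mem_cons_self
        · exact List.mem_cons_of_mem _ (h2 b hb)
      · rw [List.prod_cons, List.prod_cons, h3]

/-- every involution is the product of at most `m` distinct commuting members of `D` -/
def Cover (D : Set G) (m : ℕ) : Prop :=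
  ∀ x : G, x * x = 1 → x ≠ 1 → ∃ l : List G, Good D l ∧ l.length ≤ m ∧ l.prod = x

theorem Good.map {H : Type v} [Group H] {E : Set H} (e : G ≃* H) (he : e '' D = E) {l : List G}
    (h : Good D l) : Good E (l.map e) := by
  refine ⟨h.nodup.map e.injective, ?_, ?_⟩
  · intro a ha
    obtain ⟨b, hb, rfl⟩ := List.mem_map.1 ha
    rw [← he]
    exact ⟨b, h.mem b hb, rfl⟩
  · intro a ha b hb
    obtain ⟨a', ha', rfl⟩ := List.mem_map.1 ha
    obtain ⟨b', hb', rfl⟩ := List.mem_map.1 hb
    exact (h.comm a' ha' b' hb').map e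

/-- transport of `Cover` -/
theorem Cover.map {H : Type v} [Group H] {E : Set H} (e : G ≃* H) (he : e '' D = E) {m : ℕ}
    (h : Cover D m) : Cover E m := by
  intro x hx h1
  obtain ⟨l, hl, hm, hp⟩ := h (e.symm x) (by rw [← map_mul, hx, map_one])
    (fun h2 => h1 (by rw [← e.apply_symm_apply x, h2, map_one]))
  refine ⟨l.map e, hl.map e he, by rw [List.length_map]; exact hm, ?_⟩
  rw [← map_list_prod, hp, e.apply_symm_apply]

/-- the general uniqueness of the length -/
theorem length_eq (hT : IsThreeTranspositionSet D) {n : ℕ} (hN : NoRel D n)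
    (l l' : List G) (h : Good D l) (h' : Good D l') (hlen : l.length + l'.length ≤ n)
    (hlen' : l'.length ≤ 3) (hp : l.prod = l'.prod) : l.length = l'.length := by
  classical
  have hcc : ∀ a ∈ l, ∀ b ∈ l', Commute a b := by
    intro a ha b hb
    have h1 : Commute a l'.prod := by
      rw [← hp]
      apply Commute.list_prod_right
      intro c hc1
      exact h.comm a ha c hc1
    exact commute_of_prod hT l' h'.nodup h'.mem h'.comm hlen' (h.mem a ha) h1 b hb
  set l1 := l.filter (fun a => a ∉ l') with hl1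
  set c1 := l.filter (fun a => ¬ (a ∉ l')) with hc1
  set l2 := l'.filter (fun a => a ∉ l) with hl2
  set c2 := l'.filter (fun a => ¬ (a ∉ l)) with hc2
  have p1 : (l1 ++ c1).Perm l := by
    have := List.filter_append_perm (fun a => decide (a ∉ l')) l
    simpa [hl1, hc1] using this
  have p2 : (l2 ++ c2).Perm l' := by
    have := List.filter_append_perm (fun a => decide (a ∉ l)) l'
    simpa [hl2, hc2] using this
  have e1 : l.prod = l1.prod * c1.prod := by
    rw [← List.prod_append]
    exact (p1.prod_eq' (List.Pairwise.imp_of_mem (fun {a b} ha hb _ =>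
      h.comm a (p1.subset ha) b (p1.subset hb)) (p1.symm.nodup h.nodup))).symm
  have e2 : l'.prod = l2.prod * c2.prod := by
    rw [← List.prod_append]
    exact (p2.prod_eq' (List.Pairwise.imp_of_mem (fun {a b} ha hb _ =>
      h'.comm a (p2.subset ha) b (p2.subset hb)) (p2.symm.nodup h'.nodup))).symm
  have hcperm : c1.Perm c2 := by
    rw [List.perm_ext_iff_of_nodup (h.nodup.filter _) (h'.nodup.filter _)]
    intro a
    simp only [c1, c2, List.mem_filter, not_not, decide_eq_true_eq]
    exact and_comm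
  have e3 : c1.prod = c2.prod := by
    refine hcperm.prod_eq' (List.Pairwise.imp_of_mem (fun {a b} ha hb _ => ?_)
      (h.nodup.filter _))
    exact h.comm a (List.mem_of_mem_filter ha) b (List.mem_of_mem_filter hb)
  have e4 : l1.prod = l2.prod := by
    rw [e1, e2, e3] at hp
    exact mul_right_cancel hp
  have m1 : ∀ a ∈ l1, a ∈ l ∧ a ∉ l' := by
    intro a ha
    simpa [hl1, List.mem_filter] using ha
  have m2 : ∀ a ∈ l2, a ∈ l' ∧ a ∉ l := by
    intro a ha
    simpa [hl2, List.mem_filter] using ha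
  have h0 : l1 ++ l2 = [] := by
    apply hN
    · apply List.Nodup.append (h.nodup.filter _) (h'.nodup.filter _)
      intro a ha hb
      exact (m1 a ha).2 (m2 a hb).1
    · intro a ha
      rw [List.mem_append] at ha
      rcases ha with ha | ha
      · exact h.mem a (m1 a ha).1
      · exact h'.mem a (m2 a ha).1
    · intro a ha b hb
      rw [List.mem_append] at ha hb
      rcases ha with ha | ha <;> rcases hb with hb | hb
      · exact h.comm a (m1 a ha).1 b (m1 b hb).1
      · exact hcc a (m1 a ha).1 b (m2 b hb).1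
      · exact (hcc b (m1 b hb).1 a (m2 a ha).1).symm
      · exact h'.comm a (m2 a ha).1 b (m2 b hb).1
    · rw [List.prod_append, ← e4]
      exact sq_prod hT l1 (fun a ha => h.mem a (m1 a ha).1)
        (fun a ha b hb => h.comm a (m1 a ha).1 b (m1 b hb).1)
    · rw [List.length_append]
      have h1 : l1.length ≤ l.length := List.length_filter_le _ _
      have h2 : l2.length ≤ l'.length := List.length_filter_le _ _
      omega
  rw [List.append_eq_nil_iff] at h0
  have q1 := p1.length_eq
  have q2 := p2.length_eq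
  rw [List.length_append, h0.1, List.length_nil] at q1
  rw [List.length_append, h0.2, List.length_nil] at q2
  have q3 := hcperm.length_eq
  omega

/-- **The classes of involutions** -/
theorem conclusion (hT : IsThreeTranspositionSet D) {M : ℕ} (hM : M ≤ 4)
    (hC : Cover D M) (hN : NoRel D (2 * M - 1))
    (hex : ∀ m, 1 ≤ m → m ≤ M → ∃ l : List G, Good D l ∧ l.length = m)
    (htr : ∀ m, 1 ≤ m → m ≤ M → TransF D m) :
    (∀ x : G, orderOf x = 2 → ∃ m : ℕ, 1 ≤ m ∧ m ≤ M ∧ (∃ l : List G, l.Nodup ∧ l.length = m ∧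
      (∀ a ∈ l, a ∈ D) ∧ (∀ a ∈ l, ∀ b ∈ l, Commute a b) ∧ l.prod = x)) ∧
    (∀ m : ℕ, 1 ≤ m → m ≤ M → (∃ x : G, orderOf x = 2 ∧ (∃ l : List G, l.Nodup ∧ l.length = m ∧
      (∀ a ∈ l, a ∈ D) ∧ (∀ a ∈ l, ∀ b ∈ l, Commute a b) ∧ l.prod = x)) ∧
      ∀ x y : G, (∃ l : List G, l.Nodup ∧ l.length = m ∧ (∀ a ∈ l, a ∈ D) ∧
        (∀ a ∈ l, ∀ b ∈ l, Commute a b) ∧ l.prod = x) →
      (∃ l : List G, l.Nodup ∧ l.length = m ∧ (∀ a ∈ l, a ∈ D) ∧
        (∀ a ∈ l, ∀ b ∈ l, Commute a b) ∧ l.prod = y) → IsConj x y) ∧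
    ∀ (m m' : ℕ) (x : G), 1 ≤ m → m ≤ M → 1 ≤ m' → m' ≤ M →
      (∃ l : List G, l.Nodup ∧ l.length = m ∧ (∀ a ∈ l, a ∈ D) ∧
        (∀ a ∈ l, ∀ b ∈ l, Commute a b) ∧ l.prod = x) →
      (∃ l : List G, l.Nodup ∧ l.length = m' ∧ (∀ a ∈ l, a ∈ D) ∧
        (∀ a ∈ l, ∀ b ∈ l, Commute a b) ∧ l.prod = x) → m = m' := by
  refine ⟨?_, ?_, ?_⟩
  · intro x hx
    have h1 : x * x = 1 := by rw [← pow_two, ← hx, pow_orderOf_eq_one]
    have h2 : x ≠ 1 := by
      rintro rfl
      rw [orderOf_one] at hx
      omega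
    obtain ⟨l, hl, hm, hp⟩ := hC x h1 h2
    refine ⟨l.length, ?_, hm, l, hl.nodup, rfl, hl.mem, hl.comm, hp⟩
    rcases l with _ | ⟨a, l⟩
    · exact absurd hp.symm h2
    · simp
  · intro m h1 hm
    refine ⟨?_, ?_⟩
    · obtain ⟨l, hl, hlen⟩ := hex m h1 hm
      refine ⟨l.prod, ?_, l, hl.nodup, hlen, hl.mem, hl.comm, rfl⟩
      apply orderOf_eq_prime
      · rw [pow_two]
        exact sq_prod hT l hl.mem hl.comm
      · intro h2
        have h3 := hN l hl.nodup hl.mem hl.comm h2 (by omega)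
        rw [h3, List.length_nil] at hlen
        omega
    · rintro x y ⟨l, n1, n2, n3, n4, rfl⟩ ⟨l', n1', n2', n3', n4', rfl⟩
      exact (htr m h1 hm).isConj n2 n2' n1 n1' n3 n3' n4 n4'
  · rintro m m' x h1 h2 h1' h2' ⟨l, n1, n2, n3, n4, n5⟩ ⟨l', n1', n2', n3', n4', n5'⟩
    by_cases hmm : m = m'
    · exact hmm
    rcases Nat.lt_or_ge m' 4 with h3 | h3
    · have := length_eq hT hN l l' ⟨n1, n3, n4⟩ ⟨n1', n3', n4'⟩ (by omega) (by omega)
        (by rw [n5, n5'])
      omega
    · have := length_eq hT hN l' l ⟨n1', n3', n4'⟩ ⟨n1, n3, n4⟩ (by omega) (by omega)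
        (by rw [n5, n5'])
      omega

/-! ### Existence of commuting members -/

theorem good_six {S : Set G} (h : IsT6 S) {x : G} (hx : x ∈ S) : ∃ y ∈ Loc S x, True := by
  have h1 := Cfsg.Agent.S0480U.UComb.ncard_six (h.2.1 x hx)
  obtain ⟨y, hy⟩ := Set.nonempty_of_ncard_ne_zero (by rw [h1]; norm_num : (Loc S x).ncard ≠ 0)
  exact ⟨y, hy, trivial⟩

theorem exists_triple {S : Set G} (h : IsT7 S) {x : G} (hx : x ∈ S) :
    ∃ y z : G, y ∈ Loc S x ∧ z ∈ Loc (Loc S x) y := by
  have h6 := h.2.1 x hx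
  have h1 := h6.1
  obtain ⟨y, hy⟩ := Set.nonempty_of_ncard_ne_zero (by rw [h1]; norm_num : (Loc S x).ncard ≠ 0)
  obtain ⟨z, hz, -⟩ := good_six h6 hy
  exact ⟨y, z, hy, hz⟩

theorem exists_seven {S : Set G} (h : IsT7 S) : ∃ x y z : G, Good S [x, y, z] := by
  have h1 := h.1
  obtain ⟨x, hx⟩ := Set.nonempty_of_ncard_ne_zero (by rw [h1]; norm_num : S.ncard ≠ 0)
  obtain ⟨y, z, hy, hz⟩ := exists_triple h hx
  refine ⟨x, y, z, ?_⟩
  have hz0 : Good S [z] := (Good.nil.cons hz.1.1 (by simp) (by simp))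
  have hyz : Good S [y, z] := by
    refine hz0.cons hy.1 ?_ ?_
    · simp only [List.mem_singleton]; exact hz.2.1.symm
    · simp only [List.mem_singleton]; rintro b rfl; exact hz.2.2
  refine hyz.cons hx ?_ ?_
  · simp only [List.mem_cons, List.not_mem_nil, or_false, not_or]
    exact ⟨hy.2.1.symm, hz.1.2.1.symm⟩
  · simp only [List.mem_cons, List.not_mem_nil, or_false]
    rintro b (rfl | rfl)
    · exact hy.2.2
    · exact hz.1.2.2

theorem exists_eight {S : Set G} (h : IsT8 S) : ∃ w x y z : G, Good S [w, x, y, z] := by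
  have h1 := h.1
  obtain ⟨w, hw⟩ := Set.nonempty_of_ncard_ne_zero (by rw [h1]; norm_num : S.ncard ≠ 0)
  obtain ⟨x, y, z, hg⟩ := exists_seven (h.2.1 w hw)
  refine ⟨w, x, y, z, ?_⟩
  have hg' : Good S [x, y, z] := ⟨hg.nodup, fun a ha => (hg.mem a ha).1, hg.comm⟩
  refine hg'.cons hw ?_ ?_
  · intro h2
    exact (hg.mem w h2).2.1 rfl
  · intro b hb
    exact (hg.mem b hb).2.2

theorem Good.take {l : List G} (h : Good D l) (k : ℕ) : Good D (l.take k) :=
  ⟨h.nodup.sublist (List.take_sublist _ _), fun a ha => h.mem a (List.mem_of_mem_take ha),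
    fun a ha b hb => h.comm a (List.mem_of_mem_take ha) b (List.mem_of_mem_take hb)⟩

theorem exists_take {l : List G} (h : Good D l) {m : ℕ} (hm : m ≤ l.length) :
    ∃ l' : List G, Good D l' ∧ l'.length = m :=
  ⟨l.take m, h.take m, by rw [List.length_take]; omega⟩

/-! ### The two types -/

theorem trans_two_of [Finite G] (F : FGroup D) (h : N7 D) : TransF D 2 := by
  obtain ⟨x, hx⟩ := F.fd.nonempty
  exact transF_two F (thin_N7 h) hx (inherit_N7 F h hx)

/-- **Type `T7`.** -/
theorem main_seven [Finite G] (F : FGroup D) (h : IsT7 D) (hC : Cover D 3) :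
    (∀ x : G, orderOf x = 2 → ∃ m : ℕ, 1 ≤ m ∧ m ≤ 3 ∧ (∃ l : List G, l.Nodup ∧ l.length = m ∧
      (∀ a ∈ l, a ∈ D) ∧ (∀ a ∈ l, ∀ b ∈ l, Commute a b) ∧ l.prod = x)) ∧
    (∀ m : ℕ, 1 ≤ m → m ≤ 3 → (∃ x : G, orderOf x = 2 ∧ (∃ l : List G, l.Nodup ∧ l.length = m ∧
      (∀ a ∈ l, a ∈ D) ∧ (∀ a ∈ l, ∀ b ∈ l, Commute a b) ∧ l.prod = x)) ∧
      ∀ x y : G, (∃ l : List G, l.Nodup ∧ l.length = m ∧ (∀ a ∈ l, a ∈ D) ∧
        (∀ a ∈ l, ∀ b ∈ l, Commute a b) ∧ l.prod = x) →
      (∃ l : List G, l.Nodup ∧ l.length = m ∧ (∀ a ∈ l, a ∈ D) ∧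
        (∀ a ∈ l, ∀ b ∈ l, Commute a b) ∧ l.prod = y) → IsConj x y) ∧
    ∀ (m m' : ℕ) (x : G), 1 ≤ m → m ≤ 3 → 1 ≤ m' → m' ≤ 3 →
      (∃ l : List G, l.Nodup ∧ l.length = m ∧ (∀ a ∈ l, a ∈ D) ∧
        (∀ a ∈ l, ∀ b ∈ l, Commute a b) ∧ l.prod = x) →
      (∃ l : List G, l.Nodup ∧ l.length = m' ∧ (∀ a ∈ l, a ∈ D) ∧
        (∀ a ∈ l, ∀ b ∈ l, Commute a b) ∧ l.prod = x) → m = m' := by
  have hT : IsThreeTranspositionSet D := (Cfsg.Agent.Fischer160.Inherit.isThree_of_fdata F.fd).1
  refine conclusion hT (by norm_num) hC ((noRel_seven hT h).mono (by norm_num)) ?_ ?_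
  · intro m _ hm
    obtain ⟨x, y, z, hg⟩ := exists_seven h
    exact exists_take hg hm
  · intro m h1 hm
    interval_cases m
    · exact transF_one F.fd
    · exact trans_two_of F (n7_of_isT7 h)
    · exact trans_seven F (n7_of_isT7 h)

/-- **Type `T8`.** -/
theorem main_eight [Finite G] (F : FGroup D) (h : IsT8 D) (hC : Cover D 4) :
    (∀ x : G, orderOf x = 2 → ∃ m : ℕ, 1 ≤ m ∧ m ≤ 4 ∧ (∃ l : List G, l.Nodup ∧ l.length = m ∧
      (∀ a ∈ l, a ∈ D) ∧ (∀ a ∈ l, ∀ b ∈ l, Commute a b) ∧ l.prod = x)) ∧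
    (∀ m : ℕ, 1 ≤ m → m ≤ 4 → (∃ x : G, orderOf x = 2 ∧ (∃ l : List G, l.Nodup ∧ l.length = m ∧
      (∀ a ∈ l, a ∈ D) ∧ (∀ a ∈ l, ∀ b ∈ l, Commute a b) ∧ l.prod = x)) ∧
      ∀ x y : G, (∃ l : List G, l.Nodup ∧ l.length = m ∧ (∀ a ∈ l, a ∈ D) ∧
        (∀ a ∈ l, ∀ b ∈ l, Commute a b) ∧ l.prod = x) →
      (∃ l : List G, l.Nodup ∧ l.length = m ∧ (∀ a ∈ l, a ∈ D) ∧
        (∀ a ∈ l, ∀ b ∈ l, Commute a b) ∧ l.prod = y) → IsConj x y) ∧
    ∀ (m m' : ℕ) (x : G), 1 ≤ m → m ≤ 4 → 1 ≤ m' → m' ≤ 4 →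
      (∃ l : List G, l.Nodup ∧ l.length = m ∧ (∀ a ∈ l, a ∈ D) ∧
        (∀ a ∈ l, ∀ b ∈ l, Commute a b) ∧ l.prod = x) →
      (∃ l : List G, l.Nodup ∧ l.length = m' ∧ (∀ a ∈ l, a ∈ D) ∧
        (∀ a ∈ l, ∀ b ∈ l, Commute a b) ∧ l.prod = x) → m = m' := by
  have hT : IsThreeTranspositionSet D := (Cfsg.Agent.Fischer160.Inherit.isThree_of_fdata F.fd).1
  refine conclusion hT le_rfl hC ((noRel_eight hT h).mono (by norm_num)) ?_ ?_
  · intro m _ hm
    obtain ⟨w, x, y, z, hg⟩ := exists_eight h
    exact exists_take hg hm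
  · intro m h1 hm
    obtain ⟨x, hx⟩ := F.fd.nonempty
    have hE := inherit_T8 F h hx
    have h7 := n7_of_isT7 (isT7_Eb F h hx)
    interval_cases m
    · exact transF_one F.fd
    · exact transF_two F (thin_T8 h) hx hE
    · exact transF_succ F.fd (thin_T8 h) hx (trans_two_of hE h7)
    · exact trans_eight F h

end Cfsg.Agent.H816.Prods
end

-- part: H816/OutInv
section
/-!
# The involutions of `Fi24` outside `Fi24'` (copied from `CpAutFi24.OutInv`, small closure)

`outer_cases` : an involution of `Fi24` outside `Fi24'` is a transposition or the product of three different commuting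
transpositions.
-/

set_option autoImplicit false
set_option linter.unusedVariables false

namespace Cfsg.Agent.H816.OutInv

open Cfsg Cfsg.Agent.R01
open Cfsg.Agent.R08.TetBasic Cfsg.Agent.R08.TetTwo Cfsg.Agent.R08.TetThree Cfsg.Agent.R08.TetPair

section Gen

variable {F P : Type*} [Group F] [Group P] {L : Set F} {F0 : Subgroup F} {T : Set P}

/-- The automorphism of `P` induced by an involution `t` (normalising `F0`) which interchanges `a` and `b`. -/
theorem exists_theta (h : Pre L F0 T) {a b t : F} (ha : a ∈ L) (hb : b ∈ L) (hne : a ≠ b)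
    (hab : Commute a b) (ht : ∀ x ∈ F0, t * x * t ∈ F0) (htt : t * t = 1) (hta : t * a * t = b) :
    ∃ (π : F → P) (θ : P ≃* P), Pi L F0 T a b π ∧ (∀ p, θ (θ p) = p) ∧
      ∀ x, InQ F0 a b x → InQ F0 a b (t * x * t) ∧ θ (π x) = π (t * x * t) := by
  obtain ⟨π, hP⟩ := h.exists_pi ha hb hne hab
  have tt : ∀ c : F, t * (t * c * t) * t = c := by
    intro c
    calc t * (t * c * t) * t = (t * t) * c * (t * t) := by group
      _ = c := by rw [htt, one_mul, mul_one]
  have tm : ∀ c d : F, t * (c * d) * t = t * c * t * (t * d * t) := by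
    intro c d
    calc t * (c * d) * t = t * c * 1 * d * t := by group
      _ = t * c * (t * t) * d * t := by rw [htt]
      _ = t * c * t * (t * d * t) := by group
  have htb : t * b * t = a := by rw [← hta, tt]
  have tc : ∀ c d : F, Commute c d → Commute (t * c * t) (t * d * t) := by
    intro c d hcd
    show _ = _
    rw [← tm, ← tm, hcd.eq]
  have hq : ∀ x, InQ F0 a b x → InQ F0 a b (t * x * t) := by
    intro x hx
    refine ⟨ht x hx.f0, ?_, ?_⟩
    · have := tc x b hx.cb; rwa [htb] at this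
    · have := tc x a hx.ca; rwa [hta] at this
  have tab : t * (a * b) * t = a * b := by rw [tm, hta, htb, hab.eq]
  choose s hs1 hs2 using hP.surj
  have qab : InQ F0 a b (a * b) := h.inQ ha hb hab hab.symm (Commute.refl b)
  -- well defined
  have key : ∀ x, InQ F0 a b x → π (t * s (π x) * t) = π (t * x * t) := by
    intro x hx
    rcases hP.eq_or (hs1 (π x)) hx (hs2 (π x)) with h1 | h1
    · rw [h1]
    · rw [h1, tm, tab, hP.mul _ (hq x hx) _ qab, hP.ab, mul_one]
  have inv : ∀ p, π (t * s (π (t * s p * t)) * t) = p := by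
    intro p
    rw [key _ (hq _ (hs1 p)), tt, hs2]
  refine ⟨π,
    { toFun := fun p => π (t * s p * t)
      invFun := fun p => π (t * s p * t)
      left_inv := inv
      right_inv := inv
      map_mul' := fun p q => by
        have h1 : π (s p * s q) = p * q := by rw [hP.mul _ (hs1 p) _ (hs1 q), hs2, hs2]
        rw [← h1, key _ ((hs1 p).mul (hs1 q)), tm, hP.mul _ (hq _ (hs1 p)) _ (hq _ (hs1 q))] },
    hP, inv, ?_⟩
  intro x hx
  exact ⟨hq x hx, key x hx⟩

/-- An involution normalising `F0` commutes with some member of `L`. -/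
theorem exists_commute (h : Pre L F0 T)
    (hFf : ∀ θ : P ≃* P, (∀ x, θ (θ x) = x) → ¬ ∀ d ∈ T, θ d ∈ T ∧ θ d ≠ d ∧ θ d * d = d * θ d)
    {t : F} (ht : ∀ x ∈ F0, t * x * t ∈ F0) (htt : t * t = 1) : ∃ f ∈ L, Commute t f := by
  by_contra hcon
  push Not at hcon
  have hti : t⁻¹ = t := inv_eq_of_mul_eq_one_left htt
  have tt : ∀ c : F, t * (t * c * t) * t = c := by
    intro c
    calc t * (t * c * t) * t = (t * t) * c * (t * t) := by group
      _ = c := by rw [htt, one_mul, mul_one]
  have tm : ∀ c d : F, t * (c * d) * t = t * c * t * (t * d * t) := by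
    intro c d
    calc t * (c * d) * t = t * c * 1 * d * t := by group
      _ = t * c * (t * t) * d * t := by rw [htt]
      _ = t * c * t * (t * d * t) := by group
  have tL : ∀ c ∈ L, t * c * t ∈ L := by
    intro c hc
    have := h.conj t c hc
    rwa [hti] at this
  have fix : ∀ f ∈ L, t * f * t ≠ f := by
    intro f hf h1
    apply hcon f hf
    show t * f = f * t
    calc t * f = t * f * (t * t) := by rw [htt, mul_one]
      _ = t * f * t * t := by group
      _ = f * t := by rw [h1]
  have com : ∀ c ∈ L, Commute (t * c * t) c := by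
    intro c hc
    rcases h.three c hc (t * c * t) (tL c hc) with h1 | h1
    · exact h1.symm
    · exfalso
      have h2 : c * (t * c * t) * c ∈ L := by
        have := h.conj c (t * c * t) (tL c hc)
        rwa [inv_eq_of_mul_eq_one_left (h.sq c hc)] at this
      apply fix _ h2
      rw [tm, tm, tt]
      exact h1.symm
  obtain ⟨a, ha⟩ := h.ne
  obtain ⟨π, θ, hP, hθ, hθπ⟩ := exists_theta h ha (tL a ha) (fix a ha).symm (com a ha).symm ht htt rfl
  apply hFf θ hθ
  intro d hd
  obtain ⟨c, hc, n1, n2, c1, c2, rfl⟩ := hP.lift d hd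
  have q1 := h.inQ ha hc (com a ha).symm c1 c2
  have k1 : t * c * t ≠ a := by
    intro h1
    apply n2
    rw [← h1, tt]
  have k2 : t * c * t ≠ t * a * t := by
    intro h1
    apply n1
    exact mul_left_cancel (mul_right_cancel h1)
  have c3 : Commute (t * c * t) (t * a * t) := by
    show _ = _
    rw [← tm, ← tm, c1.eq]
  have c4 : Commute (t * c * t) a := by
    have : Commute (t * c * t) (t * (t * a * t) * t) := by
      show _ = _
      rw [← tm, ← tm, c2.eq]
    rwa [tt] at this
  have q2 := h.inQ ha (tL c hc) (com a ha).symm c4 c3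
  have q3 := h.inQ ha (tL a ha) (com a ha).symm (com a ha) (Commute.refl _)
  have e1 : θ (π (a * c)) = π (a * (t * c * t)) := by
    rw [(hθπ _ q1).2, tm]
    have e2 : t * a * t * (t * c * t) = a * (t * a * t) * (a * (t * c * t)) := by
      rw [mul_mul (h.sq a ha) (com a ha)]
    rw [e2, hP.mul _ q3 _ q2, hP.ab, one_mul]
  rw [e1]
  refine ⟨hP.map _ (tL c hc) k1 k2 c4 c3, ?_, ?_⟩
  · intro h1
    exact fix c hc (hP.inj _ (tL c hc) k1 k2 c4 c3 c hc n1 n2 c1 c2 h1)
  · rw [← hP.mul _ q2 _ q1, ← hP.mul _ q1 _ q2, mul_mul (h.sq a ha) c4, mul_mul (h.sq a ha) c1,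
      (com c hc).eq]

end Gen

open Cfsg.Agent.R08 Cfsg.Agent.R08.FiTwentyFour
open Cfsg.Spor (Fi24)
open Cfsg.Agent.KFacts.FiTF.Defs (z Dz)

/-- an involution of `Fi24` commutes with a transposition -/
theorem exists_comm {t : Fi24} (htt : t * t = 1) : ∃ f ∈ L, Commute t f := by
  refine exists_commute TetFi24B.pre (fun θ h2 hall =>
    NoFpf.fi22_no_fpf θ (fun t ht => (hall t ht).1) h2 (fun t ht => (hall t ht).2.1)
      (fun t ht => (hall t ht).2.2)) (fun x hx => ?_) htt
  have h1 := (inferInstance : (commutator Fi24).Normal).conj_mem x hx t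
  rwa [inv_eq_of_mul_eq_one_left htt] at h1

/-- a transposition commuting with `z` is a member of a tetrad of `z` -/
theorem exists_tet_z {f : Fi24} (hf : f ∈ L) (hfz : Commute f z) : ∃ b c d, IsTet L z f b c d := by
  obtain ⟨w, hw, hwf⟩ := KFacts.FiTF.FixZ.tran f ⟨hf, hfz.eq⟩
  have hwz : Commute w z := by
    have h1 : Subgroup.closure ({KFacts.FiTF.Defs.D 0 0, KFacts.FiTF.Defs.D 0 1, KFacts.FiTF.Defs.D 1 0,
        KFacts.FiTF.Defs.D 2 0, KFacts.FiTF.Defs.D 3 0, KFacts.FiTF.Defs.D 4 0, KFacts.FiTF.Defs.D 5 0} : Set Fi24) ≤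
        Subgroup.centralizer {z} := by
      rw [Subgroup.closure_le]
      intro x hx
      have h2 : ∀ t < 6, ∀ i < 4, KFacts.FiTF.Defs.D t i ∈ Subgroup.centralizer ({z} : Set Fi24) := by
        intro t ht i hi
        rw [Subgroup.mem_centralizer_singleton_iff]
        exact (KFacts.FiTF.Tet.z_D ht hi).symm
      simp only [Set.mem_insert_iff, Set.mem_singleton_iff] at hx
      rcases hx with rfl | rfl | rfl | rfl | rfl | rfl | rfl <;> apply h2 <;> norm_num
    exact Subgroup.mem_centralizer_singleton_iff.1 (h1 hw)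
  have h3 := KFacts.FiTF.Tet.isTet (t := 0) (by norm_num)
  have h4 := h3.conj TetFi24A.tr hwz
  rw [KFacts.FiTF.RQ.D00, hwf] at h4
  exact ⟨_, _, _, h4⟩

/-- a transposition commuting with the product of a tetrad is a member of a tetrad with the same product -/
theorem exists_tet {s a b c d f : Fi24} (h : IsTet L s a b c d) (hf : f ∈ L) (hfs : Commute f s) :
    ∃ b' c' d', IsTet L s f b' c' d' := by
  have h3 := KFacts.FiTF.Tet.isTet (t := 0) (by norm_num)
  obtain ⟨g, hg, e1, e2, e3, e4⟩ := TetBig.quad TetBigInst.hyp h h3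
  -- `g` conjugates `s` to `z`
  have hs : g * s * g⁻¹ = z := by
    rw [← h3.prod, ← h.prod, TetBig.conj_mul, TetBig.conj_mul, TetBig.conj_mul, e1, e2, e3, e4]
  have hfz : Commute (g * f * g⁻¹) z := by
    rw [← hs]
    show g * f * g⁻¹ * (g * s * g⁻¹) = g * s * g⁻¹ * (g * f * g⁻¹)
    calc g * f * g⁻¹ * (g * s * g⁻¹) = g * (f * s) * g⁻¹ := by group
      _ = g * (s * f) * g⁻¹ := by rw [hfs.eq]
      _ = _ := by group
  obtain ⟨b1, c1, d1, k⟩ := exists_tet_z (FiTwentyFour.conj hf g) hfz
  have inj : ∀ x y : Fi24, g⁻¹ * x * g = g⁻¹ * y * g → x = y := fun x y e =>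
    mul_left_cancel (mul_right_cancel e)
  have cm : ∀ x y : Fi24, Commute x y → Commute (g⁻¹ * x * g) (g⁻¹ * y * g) := by
    intro x y e
    show g⁻¹ * x * g * (g⁻¹ * y * g) = g⁻¹ * y * g * (g⁻¹ * x * g)
    calc g⁻¹ * x * g * (g⁻¹ * y * g) = g⁻¹ * (x * y) * g := by group
      _ = g⁻¹ * (y * x) * g := by rw [e.eq]
      _ = _ := by group
  have mm : ∀ x ∈ L, g⁻¹ * x * g ∈ L := by
    intro x hx
    have := FiTwentyFour.conj hx g⁻¹
    rwa [inv_inv] at this
  have ef : g⁻¹ * (g * f * g⁻¹) * g = f := by group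
  have es : g⁻¹ * z * g = s := by rw [← hs]; group
  refine ⟨g⁻¹ * b1 * g, g⁻¹ * c1 * g, g⁻¹ * d1 * g, ?_⟩
  have k1 := k
  obtain ⟨m1, m2, m3, m4, c12, c13, c14, c23, c24, c34, n12, n13, n14, n23, n24, n34, hp⟩ := k1
  refine ⟨hf, mm _ m2, mm _ m3, mm _ m4, ?_, ?_, ?_, cm _ _ c23, cm _ _ c24, cm _ _ c34, ?_, ?_, ?_,
    fun e => n23 (inj _ _ e), fun e => n24 (inj _ _ e), fun e => n34 (inj _ _ e), ?_⟩
  · have := cm _ _ c12; rwa [ef] at this
  · have := cm _ _ c13; rwa [ef] at this
  · have := cm _ _ c14; rwa [ef] at this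
  · intro e; apply n12; apply inj; rw [ef]; exact e
  · intro e; apply n13; apply inj; rw [ef]; exact e
  · intro e; apply n14; apply inj; rw [ef]; exact e
  · rw [← es, ← hp]; group

/-- three different commuting transpositions -/
structure Tri3 (a b c : Fi24) : Prop where
  ha : a ∈ L
  hb : b ∈ L
  hc : c ∈ L
  ab : Commute a b
  ac : Commute a c
  bc : Commute b c
  nab : a ≠ b
  nac : a ≠ c
  nbc : b ≠ c

/-- **the involutions outside `Fi24'`** -/
theorem outer_cases {t : Fi24} (ht : t ∉ commutator Fi24) (htt : t * t = 1) :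
    t ∈ L ∨ ∃ a b c, Tri3 a b c ∧ t = a * b * c := by
  obtain ⟨f, hf, hc⟩ := exists_comm htt
  have hT := TetFi24A.tr
  have h1 : t * f ∈ commutator Fi24 := by
    rw [Subgroup.mul_mem_iff_of_index_two index_commutator]
    exact ⟨fun h => absurd h ht, fun h => absurd h (FiTwentyFour.odd hf)⟩
  have h2 : t * f * (t * f) = 1 := by
    calc t * f * (t * f) = t * (f * t) * f := by group
      _ = t * (t * f) * f := by rw [hc.eq]
      _ = (t * t) * (f * f) := by group
      _ = 1 := by rw [htt, hT.sq f hf, mul_one]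
  by_cases h3 : t * f = 1
  · left
    have : t = f := by rw [eq_inv_of_mul_eq_one_left h3, hT.inv hf]
    rwa [this]
  have hcf : Commute f (t * f) := hc.symm.mul_right (Commute.refl f)
  have et : t = t * f * f := (hT.cancel' hf t).symm
  rcases OddHalf.D4.Spor.FiTF.facts.invol _ h1 h2 h3 with ⟨x, hx, y, hy, nxy, cxy, e⟩ | ⟨x, y, u, v, h4⟩
  · rw [e] at hcf
    obtain ⟨fx, fy⟩ := comm_of_comm_mul hT hx hy hf cxy nxy hcf
    rw [e] at et
    by_cases n1 : x = f
    · subst n1
      left
      have : t = y := by rw [et, cxy.eq, hT.cancel' hx]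
      rwa [this]
    by_cases n2 : y = f
    · subst n2
      left
      have : t = x := by rw [et, hT.cancel' hy]
      rwa [this]
    right
    exact ⟨x, y, f, ⟨hx, hy, hf, cxy, fx.symm, fy.symm, nxy, n1, n2⟩, et⟩
  · right
    obtain ⟨b, c, d, h5⟩ := exists_tet h4 hf hcf
    obtain ⟨m1, m2, m3, m4, c12, c13, c14, c23, c24, c34, n12, n13, n14, n23, n24, n34, hp⟩ := h5
    refine ⟨b, c, d, ⟨m2, m3, m4, c23, c24, c34, n23, n24, n34⟩, ?_⟩
    rw [et, ← hp]
    have c5 : Commute f (b * c * d) := (c12.mul_right c13).mul_right c14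
    calc f * b * c * d * f = f * (b * c * d) * f := by group
      _ = (b * c * d) * f * f := by rw [c5.eq]
      _ = b * c * d := hT.cancel' hf _

end Cfsg.Agent.H816.OutInv
end

-- part: H816/Conc
section
set_option autoImplicit false

/-!
# The involutions of the presented groups `Fi23` and `Fi24` are products of commuting transpositions
-/

namespace Cfsg.Agent.H816.Conc

open Cfsg Cfsg.Agent.H816.Prods

section Gen

variable {G : Type*} [Group G] {D : Set G}

/-- from a list of commuting members, up to conjugation -/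
theorem of_conj (hsq : ∀ x ∈ D, x * x = 1) (hconj : ∀ g : G, ∀ x ∈ D, g * x * g⁻¹ ∈ D)
    {l : List G} (hl : ∀ a ∈ l, a ∈ D) (hc : ∀ a ∈ l, ∀ b ∈ l, Commute a b) {x : G}
    (hx : IsConj x l.prod) {m : ℕ} (hm : l.length ≤ m) :
    ∃ l' : List G, Good D l' ∧ l'.length ≤ m ∧ l'.prod = x := by
  obtain ⟨g, hg⟩ := isConj_iff.1 hx.symm
  obtain ⟨l', h1, h2, -, h3⟩ := exists_good hsq (l.map (fun a => g * a * g⁻¹))
    (by
      intro a ha
      obtain ⟨b, hb, rfl⟩ := List.mem_map.1 ha
      exact hconj g b (hl b hb))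
    (by
      intro a ha b hb
      obtain ⟨a', ha', rfl⟩ := List.mem_map.1 ha
      obtain ⟨b', hb', rfl⟩ := List.mem_map.1 hb
      exact Trans.conj_comm (hc a' ha' b' hb'))
  rw [List.length_map] at h2
  rw [Trans.prod_map_conj, hg] at h3
  exact ⟨l', h1, h2.trans hm, h3⟩

theorem list_one {a : G} (ha : a ∈ D) : (∀ x ∈ [a], x ∈ D) ∧ ∀ x ∈ [a], ∀ y ∈ [a], Commute x y := by
  simp only [List.mem_singleton]
  refine ⟨?_, ?_⟩
  · rintro x rfl; exact ha
  · rintro x rfl y rfl; exact Commute.refl _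

theorem list_two {a b : G} (ha : a ∈ D) (hb : b ∈ D) (hab : Commute a b) :
    (∀ x ∈ [a, b], x ∈ D) ∧ ∀ x ∈ [a, b], ∀ y ∈ [a, b], Commute x y := by
  simp only [List.mem_cons, List.not_mem_nil, or_false]
  refine ⟨?_, ?_⟩
  · rintro x (rfl | rfl)
    · exact ha
    · exact hb
  · rintro x (hx | hx) y (hy | hy) <;> rw [hx, hy]
    · exact hab
    · exact hab.symm

theorem list_three {a b c : G} (ha : a ∈ D) (hb : b ∈ D) (hc : c ∈ D) (hab : Commute a b)
    (hac : Commute a c) (hbc : Commute b c) :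
    (∀ x ∈ [a, b, c], x ∈ D) ∧ ∀ x ∈ [a, b, c], ∀ y ∈ [a, b, c], Commute x y := by
  simp only [List.mem_cons, List.not_mem_nil, or_false]
  refine ⟨?_, ?_⟩
  · rintro x (rfl | rfl | rfl)
    · exact ha
    · exact hb
    · exact hc
  · rintro x (hx | hx | hx) y (hy | hy | hy) <;> rw [hx, hy]
    · exact hab
    · exact hac
    · exact hab.symm
    · exact hbc
    · exact hac.symm
    · exact hbc.symm

theorem list_four {a b c d : G} (ha : a ∈ D) (hb : b ∈ D) (hc : c ∈ D) (hd : d ∈ D)
    (hab : Commute a b) (hac : Commute a c) (had : Commute a d) (hbc : Commute b c)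
    (hbd : Commute b d) (hcd : Commute c d) :
    (∀ x ∈ [a, b, c, d], x ∈ D) ∧ ∀ x ∈ [a, b, c, d], ∀ y ∈ [a, b, c, d], Commute x y := by
  simp only [List.mem_cons, List.not_mem_nil, or_false]
  refine ⟨?_, ?_⟩
  · rintro x (rfl | rfl | rfl | rfl)
    · exact ha
    · exact hb
    · exact hc
    · exact hd
  · rintro x (hx | hx | hx | hx) y (hy | hy | hy | hy) <;> rw [hx, hy]
    · exact hab
    · exact hac
    · exact had
    · exact hab.symm
    · exact hbc
    · exact hbd
    · exact hac.symm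
    · exact hbc.symm
    · exact hcd
    · exact had.symm
    · exact hbd.symm
    · exact hcd.symm

end Gen

/-! ### `Fi23` -/

section Fi23

open Cfsg.Spor (Fi23)
open Cfsg.Agent.R08.FiTwentyThree
open Cfsg.Agent.Fischer.Fi23Hom (gen)
open Cfsg.Agent.Fischer.Fi23Z (z0)
open Cfsg.Agent.Fischer

/-- every involution of `Fi23` is the product of at most three commuting transpositions -/
theorem cover_fi23 : Cover (D : Set Fi23) 3 := by
  intro x hx h1
  have hsq : ∀ x ∈ (D : Set Fi23), x * x = 1 := fun x hx => sq_D hx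
  have hcj : ∀ g : Fi23, ∀ x ∈ (D : Set Fi23), g * x * g⁻¹ ∈ D := fun g x hx => conj_mem_D hx g
  have hza : Commute (z0 : Fi23) (gen .a) :=
    ((mem_K_iff _).1 (Fi23Class.gen_mem_K .a (by decide))).symm
  have hzc : Commute (z0 : Fi23) (gen .c) :=
    ((mem_K_iff _).1 (Fi23Class.gen_mem_K .c (by decide))).symm
  have hac : Commute (gen .a : Fi23) (gen .c) := Fi23Class.gen_comm .a .c (by decide)
  have h1D := z0_mem_D
  have h2D := gen_mem_D .a
  have h3D := gen_mem_D .c
  rcases KFacts.FiTTh.Has.inv x hx h1 with h | h | h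
  · have e1 : IsConj x ([z0] : List Fi23).prod := by rw [List.prod_singleton]; exact h
    exact of_conj hsq hcj (list_one h1D).1 (list_one h1D).2 e1 (by simp)
  · have e1 : IsConj x ([z0, gen .a] : List Fi23).prod := by
      rw [List.prod_cons, List.prod_singleton]; exact h
    exact of_conj hsq hcj (list_two h1D h2D hza).1 (list_two h1D h2D hza).2 e1 (by simp)
  · have e1 : IsConj x ([z0, gen .a, gen .c] : List Fi23).prod := by
      rw [List.prod_cons, List.prod_cons, List.prod_singleton, ← mul_assoc]; exact h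
    exact of_conj hsq hcj (list_three h1D h2D h3D hza hzc hac).1
      (list_three h1D h2D h3D hza hzc hac).2 e1 (by simp)

end Fi23

/-! ### `Fi24` -/

section Fi24

open Cfsg.Spor (Fi24)
open Cfsg.Agent.R08 Cfsg.Agent.R08.FiTwentyFour
open Cfsg.Agent.R08.TetBasic Cfsg.Agent.R08.TetTwo

/-- every involution of `Fi24` is the product of at most four commuting transpositions -/
theorem cover_fi24 : Cover (L : Set Fi24) 4 := by
  intro x hx h1
  have hT := TetFi24A.tr
  by_cases hc : x ∈ commutator Fi24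
  · rcases OddHalf.D4.Spor.FiTF.facts.invol x hc hx h1 with ⟨a, ha, b, hb, nab, cab, e⟩ |
      ⟨a, b, c, d, h4⟩
    · refine ⟨[a, b], ⟨by simp [nab], (list_two ha hb cab).1, (list_two ha hb cab).2⟩,
        by simp, by simp [e]⟩
    · obtain ⟨m1, m2, m3, m4, c12, c13, c14, c23, c24, c34, n12, n13, n14, n23, n24, n34, hp⟩ := h4
      have h5 := list_four m1 m2 m3 m4 c12 c13 c14 c23 c24 c34
      refine ⟨[a, b, c, d], ⟨by simp [n12, n13, n14, n23, n24, n34], h5.1, h5.2⟩, by simp, ?_⟩
      rw [← hp]; simp [mul_assoc]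
  · rcases OutInv.outer_cases hc hx with h | ⟨a, b, c, h3, e⟩
    · exact ⟨[x], ⟨by simp, (list_one h).1, (list_one h).2⟩, by simp, by simp⟩
    · have h5 := list_three h3.ha h3.hb h3.hc h3.ab h3.ac h3.bc
      refine ⟨[a, b, c], ⟨by simp [h3.nab, h3.nac, h3.nbc], h5.1, h5.2⟩, by simp, ?_⟩
      rw [e]; simp [mul_assoc]

end Fi24

end Cfsg.Agent.H816.Conc
end
end

-- part: H816/Fin24
section
set_option linter.all false
open scoped Cfsg.Agent.FastGrp

/-!
# `G ≅ Fi24` from a normal subgroup of index two isomorphic to `Fi24'` with trivial centraliser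
-/

set_option autoImplicit false

namespace Cfsg.Agent.H816.Fin24

open Subgroup Cfsg.Agent.R08 Cfsg.Agent.R08.FiTwentyFour Cfsg.Agent.R08.TetBasic Cfsg.Agent.R08.TetTwo
open Cfsg.Spor (Fi24)

universe u

theorem mulEquiv_mulAut {A : Type u} [Group A] [Finite A] (B : Subgroup A) [B.Normal]
    (hc : centralizer (B : Set A) = ⊥) (hi : B.index = Nat.card (Cfsg.Out B)) : Nonempty (A ≃* MulAut B) := by
  have hinj : Function.Injective (MulAut.conjNormal : A →* MulAut B) := by
    rw [injective_iff_map_eq_one]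
    intro a ha
    have h1 : a ∈ centralizer (B : Set A) := by
      rw [mem_centralizer_iff]
      intro b hb
      have h2 := congrArg (fun f : MulAut B => ((f ⟨b, hb⟩ : B) : A)) ha
      simp only [MulAut.conjNormal_apply, MulAut.one_apply] at h2
      exact (mul_inv_eq_iff_eq_mul.1 h2).symm
    rw [hc] at h1
    exact h1
  have hinj2 : Function.Injective (MulAut.conj : B →* MulAut B) := by
    rw [injective_iff_map_eq_one]
    intro a ha
    have h1 : (a : A) ∈ centralizer (B : Set A) := by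
      rw [mem_centralizer_iff]
      intro b hb
      have h2 := congrArg (fun f : MulAut B => ((f ⟨b, hb⟩ : B) : A)) ha
      simp only [MulAut.conj_apply, MulAut.one_apply] at h2
      exact (mul_inv_eq_iff_eq_mul.1 h2).symm
    rw [hc] at h1
    exact Subtype.ext h1
  have h1 : Nat.card (MulAut B) = Nat.card A := by
    have e1 := (MulAut.conj : B →* MulAut B).range.card_mul_index
    have e2 : (MulAut.conj : B →* MulAut B).range.index = B.index := hi.symm
    have e3 : Nat.card (MulAut.conj : B →* MulAut B).range = Nat.card B :=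
      (Nat.card_congr (MonoidHom.ofInjective hinj2).toEquiv).symm
    rw [e2, e3] at e1
    rw [← e1, B.card_mul_index]
  exact ⟨MulEquiv.ofBijective _ ((Nat.bijective_iff_injective_and_card _).2 ⟨hinj, h1.symm⟩)⟩

theorem simple_Fi24' : IsSimpleGroup Spor.Fi24' := isFi24'.1

theorem centralizer_commutator : centralizer ((commutator Fi24 : Subgroup Fi24) : Set Fi24) = ⊥ := by
  have F := Cfsg.Agent.KFacts.FiTF.frame
  have hs := simple_Fi24'
  rw [eq_bot_iff]
  intro c hc
  rw [mem_centralizer_iff] at hc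
  rw [mem_bot]
  rcases F.cent c (fun r hr => (hc r (F.EK (F.RE hr))).symm) with h | h
  · exact h
  · exfalso
    have hzK := F.EK (F.RE F.zR)
    have h1 : (⟨_, hzK⟩ : Spor.Fi24') ∈ center Spor.Fi24' := by
      rw [mem_center_iff]
      intro g
      apply Subtype.ext
      have := hc g g.2
      rw [h] at this
      exact this
    rcases hs.eq_bot_or_eq_top_of_normal (center Spor.Fi24') inferInstance with h2 | h2
    · rw [h2, mem_bot] at h1
      exact F.z1 (congrArg Subtype.val h1)
    · -- abelian simple: contradiction with the order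
      have h3 : ∀ a b : Spor.Fi24', a * b = b * a := by
        intro a b
        have h4 : b ∈ center Spor.Fi24' := by rw [h2]; trivial
        exact mem_center_iff.1 h4 a
      have key : ∀ (E : Subgroup Fi24) (_ : ⁅E, E⁆ = E) (_ : E ≤ commutator Fi24) (z : Fi24) (_ : z ∈ E), z = 1 := by
        intro E hE hEK z hz
        have h7 : ⁅E, E⁆ ≤ (⊥ : Subgroup Fi24) := by
          rw [commutator_le]
          intro a ha b hb
          rw [mem_bot, commutatorElement_eq_one_iff_mul_comm]
          exact congrArg Subtype.val (h3 ⟨a, hEK ha⟩ ⟨b, hEK hb⟩)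
        rw [hE] at h7
        exact mem_bot.1 (h7 hz)
      exact F.z1 (key _ F.perf F.EK _ (F.RE F.zR))

theorem fi24_mulAut : Nonempty (Fi24 ≃* MulAut Spor.Fi24') := by
  have := finite_Fi24
  exact mulEquiv_mulAut (commutator Fi24) centralizer_commutator (by
    rw [index_commutator]; exact Cfsg.Agent.S2081.result.symm)

/-- **recognition of `Fi24`** -/
theorem iso_of_index_two {G : Type u} [Group G] [Finite G] (M : Subgroup G) [M.Normal]
    (hc : centralizer (M : Set G) = ⊥) (h2 : M.index = 2) (e : M ≃* Spor.Fi24') : Nonempty (G ≃* Fi24) := by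
  obtain ⟨e1⟩ := Cfsg.Agent.H816.OutEmb.out_congr e
  obtain ⟨e2⟩ := mulEquiv_mulAut M hc (by rw [h2, Nat.card_congr e1.toEquiv]; exact Cfsg.Agent.S2081.result.symm)
  obtain ⟨e3⟩ := fi24_mulAut
  exact ⟨(e2.trans (MulAut.congr e)).trans e3.symm⟩

theorem index_dvd_two {G : Type u} [Group G] [Finite G] (M : Subgroup G) [M.Normal]
    (hc : centralizer (M : Set G) = ⊥) (e : M ≃* Spor.Fi24') : M.index ∣ 2 := by
  obtain ⟨e1⟩ := Cfsg.Agent.H816.OutEmb.out_congr e
  have h1 := Cfsg.Agent.H816.OutEmb.index_dvd M (by rw [hc]; exact bot_le)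
  rwa [Nat.card_congr e1.toEquiv, Cfsg.Agent.S2081.result] at h1

/-- every involution of `G ≅ Fi24` commutes with an involution outside the subgroup of index two -/
theorem exists_outer {G : Type u} [Group G] (φ : G ≃* Fi24) (M : Subgroup G) (h2 : M.index = 2)
    {z : G} (hz : z * z = 1) (hz1 : z ≠ 1) : ∃ d, d * d = 1 ∧ d ∉ M ∧ d * z = z * d := by
  have hfin := finite_Fi24
  have hM : commutator Fi24 = M.map φ.toMonoidHom := by
    have hi : (M.map φ.toMonoidHom).index = 2 := by
      rw [← h2]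
      exact index_map_equiv M φ
    have hle : commutator Fi24 ≤ M.map φ.toMonoidHom := by
      rw [commutator_def, commutator_le]
      intro a _ b _
      rw [commutatorElement_def, mul_mem_iff_of_index_two hi, mul_mem_iff_of_index_two hi,
        mul_mem_iff_of_index_two hi, inv_mem_iff, inv_mem_iff]
      tauto
    apply eq_of_le_of_card_ge hle
    have e1 := (commutator Fi24).card_mul_index
    have e2 := (M.map φ.toMonoidHom).card_mul_index
    rw [index_commutator] at e1
    rw [hi] at e2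
    omega
  obtain ⟨l, hl, -, hp⟩ := Cfsg.Agent.H816.Conc.cover_fi24 (φ z) (by rw [← map_mul, hz, map_one])
    (fun h => hz1 (φ.injective (by rw [h, map_one])))
  cases l with
  | nil =>
    exfalso
    rw [List.prod_nil] at hp
    exact hz1 (φ.injective (by rw [← hp, map_one]))
  | cons a l =>
    have ha : a ∈ L := hl.mem a (by simp)
    have hc : Commute a (a :: l).prod := Commute.list_prod_right _ _ fun b hb => hl.comm a (by simp) b hb
    rw [hp] at hc
    refine ⟨φ.symm a, ?_, ?_, ?_⟩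
    · rw [← map_mul, sq ha, map_one]
    · intro hd
      apply odd ha
      rw [hM]
      exact ⟨_, hd, by simp⟩
    · apply φ.injective
      rw [map_mul, map_mul, φ.apply_symm_apply]
      exact hc.eq

theorem klein {Γ : Type*} [Group Γ] (hΓ : Nat.card Γ = 4) (T : Subgroup Γ) (hT : T.index = 2) (d : Γ) (hd : d * d = 1)
    (hdT : d ∉ T) : ∀ x : Γ, x ^ 2 = 1 := by
  intro x
  by_contra hx
  have hfin : Finite Γ := Nat.finite_of_card_ne_zero (by omega)
  have h4 : orderOf x ∣ 2 ^ 2 := by
    have := orderOf_dvd_natCard x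
    rwa [hΓ] at this
  obtain ⟨k, hk, hxk⟩ := (Nat.dvd_prime_pow Nat.prime_two).1 h4
  have hx4 : orderOf x = 4 := by
    have : k = 2 := by
      by_contra h
      apply hx
      rw [← orderOf_dvd_iff_pow_eq_one, hxk]
      have : k ≤ 1 := by omega
      exact pow_dvd_pow 2 this
    rw [hxk, this]; norm_num
  have htop : zpowers x = ⊤ := by
    apply eq_top_of_card_eq
    rw [Nat.card_zpowers, hx4, hΓ]
  have hdx : d ∈ zpowers x := by rw [htop]; trivial
  obtain ⟨i, hi⟩ := mem_zpowers_iff.1 hdx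
  have h5 : x ^ (i + i) = 1 := by rw [zpow_add, hi, hd]
  have h6 : (4 : ℤ) ∣ i + i := by
    rw [← orderOf_dvd_iff_zpow_eq_one, hx4] at h5
    exact_mod_cast h5
  obtain ⟨j, hj⟩ : ∃ j, i = j + j := by
    obtain ⟨t, ht⟩ := h6
    exact ⟨t, by omega⟩
  apply hdT
  rw [← hi, hj, zpow_add, mul_mem_iff_of_index_two hT]

end Cfsg.Agent.H816.Fin24
end

-- part: H49/Four/TEight
section
set_option linter.all false
open scoped Cfsg.Agent.FastGrp

/-!
# The transpositions of `Fi24` are of type `T8` (helper49)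

* `fgroup24 : Fischer480.Defs.FGroup L`, `fgroup24' : Fischer160.Inherit.FGroup L`;
* `isT8 : IsT8 L`.
-/

set_option autoImplicit false
set_option linter.style.haveILetI false

namespace Cfsg.Agent.H49.Four.TEight

open Cfsg Cfsg.Agent Subgroup
open Cfsg.Agent.R08 Cfsg.Agent.R08.FiTwentyFour
open Cfsg.Agent.Fischer.Fi24Class (gen)
open Cfsg.Agent.Fischer480.Defs (FGroup IsT8 IsT7 Loc CIso)
open Cfsg.Spor (Fi24 Fi23)

/-- a finite simple group with a noncommuting pair is not solvable -/
theorem not_solvable_prime : ¬ Group.IsSolvable (commutator Fi24) := by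
  intro hsol
  haveI : IsSimpleGroup (commutator Fi24) := H816.Fin24.simple_Fi24'
  have hc : commutator (commutator Fi24) = ⊥ ∨ commutator (commutator Fi24) = ⊤ :=
    IsSimpleGroup.eq_bot_or_eq_top_of_normal _ inferInstance
  rcases hc with hc | hc
  · -- abelian: the commutator would centralize itself
    rw [commutator_eq_bot_iff_center_eq_top] at hc
    have h2 : (commutator Fi24) ≤ centralizer ((commutator Fi24 : Subgroup Fi24) : Set Fi24) := by
      intro a ha
      rw [mem_centralizer_iff]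
      intro b hb
      have h3 : (⟨a, ha⟩ : commutator Fi24) ∈ center (commutator Fi24) := by rw [hc]; trivial
      exact congrArg Subtype.val (mem_center_iff.1 h3 ⟨b, hb⟩)
    rw [H816.Fin24.centralizer_commutator, le_bot_iff] at h2
    have h4 := card_commutator
    rw [h2, card_bot] at h4
    exact absurd h4 (by norm_num)
  · obtain ⟨k, hk⟩ := hsol
    have h4 : ∀ k, derivedSeries (commutator Fi24) k = ⊤ := by
      intro k
      induction k with
      | zero => rfl
      | succ k ihk => rw [derivedSeries_succ, ihk]; exact hc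
    rw [h4 k] at hk
    exact absurd hk top_ne_bot

theorem fgroup24 : FGroup (L : Set Fi24) where
  cls := isThreeTranspositionClass
  sol := by
    intro N hN hs
    haveI : IsSimpleGroup (commutator Fi24) := H816.Fin24.simple_Fi24'
    haveI : (N.subgroupOf (commutator Fi24)).Normal := hN.subgroupOf _
    rcases IsSimpleGroup.eq_bot_or_eq_top_of_normal (N.subgroupOf (commutator Fi24)) inferInstance with h | h
    · have h1 : N ≤ centralizer ((commutator Fi24 : Subgroup Fi24) : Set Fi24) := by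
        rw [← commutator_eq_bot_iff_le_centralizer, eq_bot_iff]
        have h2 : ⁅N, commutator Fi24⁆ ≤ N ⊓ commutator Fi24 := commutator_le_inf _ _
        refine h2.trans ?_
        rw [inf_comm]
        intro x hx
        have h3 : (⟨x, hx.1⟩ : commutator Fi24) ∈ N.subgroupOf (commutator Fi24) := hx.2
        rw [h, mem_bot] at h3
        exact mem_bot.2 (congrArg Subtype.val h3)
      rwa [H816.Fin24.centralizer_commutator, le_bot_iff] at h1
    · exfalso
      apply not_solvable_prime
      haveI := hs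
      have h1 : commutator Fi24 ≤ N := subgroupOf_eq_top.1 h
      exact Group.isSolvable_of_isSolvable_injective (f := inclusion h1) (inclusion_injective h1)
  perf := by
    haveI : IsSimpleGroup (commutator Fi24) := H816.Fin24.simple_Fi24'
    have h0 : ⁅commutator Fi24, commutator Fi24⁆ = (commutator (commutator Fi24)).map (commutator Fi24).subtype := by
      rw [_root_.commutator_def (commutator Fi24), map_commutator, ← MonoidHom.range_eq_map, range_subtype]
    rcases IsSimpleGroup.eq_bot_or_eq_top_of_normal (commutator (commutator Fi24)) inferInstance with hc | hc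
    · exfalso
      apply not_solvable_prime
      rw [commutator_eq_bot_iff_center_eq_top] at hc
      exact Group.isSolvable_of_comm (fun a b => by
        have h3 : b ∈ center (commutator Fi24) := by rw [hc]; trivial
        exact mem_center_iff.1 h3 a)
    · rw [h0, hc, ← MonoidHom.range_eq_map, range_subtype]

theorem fgroup24' : Cfsg.Agent.Fischer160.Inherit.FGroup (L : Set Fi24) :=
  H831.Types.inh_of_defs fgroup24

/-- the transpositions commuting with `l` -/
theorem cIso_loc : CIso (R08.FiTwentyThree.D : Set Fi23) (Loc L (gen .l : Fi24)) := by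
  have F := facts
  have hll : gen .l * gen .l = (1 : Fi24) := sq (gen_mem_L .l)
  refine ⟨fun d => gen .l * F.phi d, ⟨?_, ?_, ?_⟩, ?_⟩
  · intro d hd
    obtain ⟨h1, h2, h3⟩ := F.commuting_iff.2 ⟨d, hd, rfl⟩
    exact ⟨h1, h2, h3.symm⟩
  · intro d _ d' _ h
    exact F.phi_injective (mul_left_cancel h)
  · intro e he
    obtain ⟨d, hd, h⟩ := F.commuting_iff.1 ⟨he.1, he.2.1, he.2.2.symm.eq⟩
    exact ⟨d, hd, h.symm⟩
  · intro a _ b _
    have hm : ∀ a b : Fi23, gen .l * F.phi a * (gen .l * F.phi b) = F.phi (a * b) := by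
      intro a b
      rw [← F.phi_comm a, map_mul, mul_assoc, ← mul_assoc (gen .l) (gen .l), hll, one_mul]
    constructor
    · intro h
      show _ = _
      rw [hm, hm, h.eq]
    · intro h
      have h' : gen .l * F.phi a * (gen .l * F.phi b) = gen .l * F.phi b * (gen .l * F.phi a) := h
      rw [hm, hm] at h'
      exact F.phi_injective h'

theorem isT7 : IsT7 (R08.FiTwentyThree.D : Set Fi23) := H816.Quasi.isT7_of H830.Con22.isT6

/-- **The type of `Fi24`.** -/
theorem isT8 : IsT8 (L : Set Fi24) := by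
  have := finite_Fi24
  refine Cfsg.Agent.S0480U.CaseDF.caseF7 fgroup24 (fun x hx => ?_)
  exact Cfsg.Agent.Fischer480.Transport.isT7 (Cfsg.Agent.Fischer480.Transport.CIso.trans
    (Cfsg.Agent.Fischer480.Main.loc_cIso_loc isThreeTranspositionClass hx (gen_mem_L .l))
    (Cfsg.Agent.Fischer480.Transport.CIso.symm cIso_loc)) isT7

end Cfsg.Agent.H49.Four.TEight
end

-- part: H816/PreEight
section
set_option linter.all false
open scoped Cfsg.Agent.FastGrp

set_option autoImplicit false
set_option linter.style.haveILetI false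

/-!
# Fischer groups of type `T8`: the involutions

`loc` : `G' ∩ C(a, b) → Fi22` with kernel `⟨ab⟩`, for `a ≠ b` commuting in `D`; `pre` : the structure
`R08.TetPair.Pre` for `(D, G', T)`; `cover` : every involution of `G` is the product of at most four distinct
commuting members of `D`.
-/

namespace Cfsg.Agent.H816.PreEight

open Cfsg Cfsg.Agent.SporadicStructure.FischerSpace Cfsg.Agent.ThreeTransPolar.Basic
open Cfsg.Agent.ThreeTransPolar.Lines
open Cfsg.Agent.Fischer160.Inherit hiding Dx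
open Cfsg.Agent.Fischer480.Defs hiding FGroup
open Cfsg.Agent.TSp.Orders
open Cfsg.Agent.R01.Lifts (Ext)
open Cfsg.Agent.R01.Start (zel)
open Cfsg.Agent.H831

universe u

variable {G : Type u} [Group G] {D : Set G}

section Eight

variable [Finite G] (F : FGroup D) (h : IsT8 D)
include F h

/-- **The projection of `G' ∩ C(a, b)` onto `Fi22`.** -/
theorem loc {a b : G} (ha : a ∈ D) (hb : b ∈ D) (hne : a ≠ b) (hab : Commute a b) :
    ∃ π : ↥(commutator G ⊓ Subgroup.centralizer {a, b}) →* Cfsg.Spor.Fi22,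
      Function.Surjective π ∧
      (∀ x : ↥(commutator G ⊓ Subgroup.centralizer {a, b}),
        π x = 1 ↔ (x : G) = 1 ∨ (x : G) = a * b) ∧
      (∀ c ∈ D, c ≠ a → c ≠ b → Commute c a → Commute c b →
        ∀ x : ↥(commutator G ⊓ Subgroup.centralizer {a, b}), (x : G) = a * c →
          π x ∈ Cfsg.Agent.R01.Fi22Facts.T) ∧
      (∀ t ∈ Cfsg.Agent.R01.Fi22Facts.T, ∃ c ∈ D, c ≠ a ∧ c ≠ b ∧ Commute c a ∧ Commute c b ∧
        ∃ x : ↥(commutator G ⊓ Subgroup.centralizer {a, b}), (x : G) = a * c ∧ π x = t) ∧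
      (∀ c ∈ D, c ≠ a → c ≠ b → Commute c a → Commute c b →
        ∀ c' ∈ D, c' ≠ a → c' ≠ b → Commute c' a → Commute c' b →
        ∀ x y : ↥(commutator G ⊓ Subgroup.centralizer {a, b}),
          (x : G) = a * c → (y : G) = a * c' → π x = π y → c = c') := by
  have hbl : b ∈ Loc D a := ⟨hb, hne.symm, hab⟩
  have hsa : a * a = 1 := F.fd.sq a ha
  obtain ⟨FE, hE⟩ := T8.sub F h ha
  have htha : Thin D a := thin_of_thinLines (T8.thin F h) ha
  have hbb : β D a b ∈ Eb D a := β_mem hbl
  obtain ⟨e, ρ, hρ, hρe, heT⟩ := T7Iso.exists_ext FE hE hbb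
  have hthb : Thin (Eb D a) (β D a b) := thin_of_thinLines (T7Iso.thin FE hE hbb) hbb
  obtain ⟨μ, hμ⟩ := T8.exists_mulEquiv_cent F h ha {b} (by rintro _ rfl; exact hbl)
  have hHa : a ∈ HH D a := T8.mem_HH_self F h ha
  have hHb : b ∈ HH D a := mem_HH_of hbl
  have hself : β D a a = 1 := T8.β_self F h ha
  have himg : (β D a '' {b}) = {β D a b} := Set.image_singleton
  let ν : ↥(Subgroup.centralizer (β D a '' {b})) ≃*
      ↥(Subgroup.centralizer ({β D a b} : Set (KK D a))) :=
    MulEquiv.subgroupCongr (by rw [himg])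
  let π : ↥(commutator G ⊓ Subgroup.centralizer {a, b}) →* Cfsg.Spor.Fi22 :=
    ρ.comp (ν.toMonoidHom.comp μ.toMonoidHom)
  have hπ : ∀ x : ↥(commutator G ⊓ Subgroup.centralizer {a, b}),
      π x = e (β (Eb D a) (β D a b) (β D a (x : G))) := by
    intro x
    have h1 : π x = ρ (ν (μ x)) := rfl
    rw [h1, hρe]
    have h2 : ((ν (μ x) : ↥(Subgroup.centralizer ({β D a b} : Set (KK D a)))) : KK D a) =
        ((μ x : ↥(Subgroup.centralizer (β D a '' {b}))) : KK D a) := rfl
    rw [h2, hμ]
  have hnb : b ∉ commutator G := T8.not_mem_commutator F h hb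
  -- the member `c`
  have hc : ∀ c ∈ D, c ≠ a → c ≠ b → Commute c a → Commute c b →
      c ∈ Loc D a ∧ β D a c ∈ Loc (Eb D a) (β D a b) := by
    intro c hcD nca ncb cca ccb
    have h1 : c ∈ Loc D a := ⟨hcD, nca, cca.symm⟩
    refine ⟨h1, β_mem h1, ?_, ?_⟩
    · intro h2
      exact ncb (β_inj htha h1 hbl h2)
    · exact (β_commute F.fd htha hbl h1).2 ccb.symm
  have hac : ∀ c ∈ Loc D a, β D a (a * c) = β D a c := by
    intro c hc'
    rw [β_mul hHa (mem_HH_of hc'), hself, one_mul]
  refine ⟨π, ?_, ?_, ?_, ?_, ?_⟩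
  · exact hρ.surj.comp (ν.surjective.comp μ.surjective)
  · intro x
    have hxC : (x : G) ∈ commutator G := x.2.1
    have hx2 := Subgroup.mem_centralizer_iff.1 x.2.2
    have hxa : Commute (x : G) a := (hx2 a (Set.mem_insert _ _)).symm
    have hxH : (x : G) ∈ HH D a := (T8.mem_HH_iff F h ha).2 hxa
    have h1 : π x = 1 ↔ ν (μ x) = 1 ∨ ν (μ x) = zel (β D a b) := hρ.ker _
    rw [h1]
    have h2 : ν (μ x) = 1 ↔ (x : G) = 1 := by
      rw [MulEquiv.map_eq_one_iff, MulEquiv.map_eq_one_iff]
      constructor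
      · intro h3; rw [h3]; rfl
      · intro h3; exact Subtype.ext h3
    have h3 : ν (μ x) = zel (β D a b) ↔ (x : G) = a * b := by
      have h4 : ν (μ x) = zel (β D a b) ↔ β D a (x : G) = β D a b := by
        rw [← hμ x]
        constructor
        · intro h5
          exact congrArg Subtype.val h5
        · intro h5
          exact Subtype.ext h5
      rw [h4]
      constructor
      · intro h5
        have hco : Commute ((x : G) * b⁻¹) a := hxa.mul_left (hab.symm.inv_left)
        have h6 : β D a ((x : G) * b⁻¹) = 1 := by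
          rw [β_mul hxH (inv_mem hHb), β_inv hHb, h5, mul_inv_cancel]
        rcases (T8.β_eq_one F h ha hco).1 h6 with h7 | h7
        · exfalso
          apply hnb
          rw [mul_inv_eq_one] at h7
          rw [← h7]
          exact hxC
        · rw [mul_inv_eq_iff_eq_mul] at h7
          exact h7
      · intro h5
        rw [h5, hac b hbl]
    rw [h2, h3]
  · intro c hcD nca ncb cca ccb x hx
    obtain ⟨h1, h2⟩ := hc c hcD nca ncb cca ccb
    rw [hπ, hx, hac c h1, ← heT]
    exact Set.mem_image_of_mem _ (β_mem h2)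
  · intro t ht
    rw [← heT] at ht
    obtain ⟨w, hw, rfl⟩ := ht
    obtain ⟨c', hc', rfl⟩ := β_surj hw
    obtain ⟨c, hcl, rfl⟩ := β_surj hc'.1
    have ncb : c ≠ b := by
      rintro rfl
      exact hc'.2.1 rfl
    have ccb : Commute c b := ((β_commute F.fd htha hbl hcl).1 hc'.2.2).symm
    refine ⟨c, hcl.1, hcl.2.1, ncb, hcl.2.2.symm, ccb, ⟨a * c, ?_, ?_⟩, rfl, ?_⟩
    · exact T8.mul_mem_commutator F ha hcl.1
    · refine Subgroup.mem_centralizer_iff.2 ?_
      rintro y (rfl | hy)
      · exact ((Commute.refl y).mul_right hcl.2.2).eq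
      · rw [Set.mem_singleton_iff] at hy
        rw [hy]
        exact (hab.symm.mul_right ccb.symm).eq
    · rw [hπ]
      show e (β (Eb D a) (β D a b) (β D a (a * c))) = _
      rw [hac c hcl]
  · intro c hcD nca ncb cca ccb c' hcD' nca' ncb' cca' ccb' x y hx hy hxy
    obtain ⟨h1, h2⟩ := hc c hcD nca ncb cca ccb
    obtain ⟨h1', h2'⟩ := hc c' hcD' nca' ncb' cca' ccb'
    rw [hπ, hπ, hx, hy, hac c h1, hac c' h1'] at hxy
    exact β_inj htha h1 h1' (β_inj hthb h2 h2' (e.injective hxy))

/-- **The structure `Pre`** -/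
theorem pre : Cfsg.Agent.R08.TetPair.Pre D (commutator G) Cfsg.Agent.R01.Fi22Facts.T where
  ne := F.fd.nonempty
  sq := F.fd.sq
  conj := F.fd.conj
  three a ha b hb := by
    by_cases hc : Commute a b
    · exact Or.inl hc
    · exact Or.inr (F.fd.braid a ha b hb hc)
  even a ha b hb := T8.mul_mem_commutator F ha hb
  oddc a ha := by
    have h1 : {c | c ∈ D ∧ c ≠ a ∧ Commute c a} = Loc D a := by
      ext c
      exact ⟨fun h => ⟨h.1, h.2.1, h.2.2.symm⟩, fun h => ⟨h.1, h.2.1, h.2.2.symm⟩⟩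
    rw [h1, (h.2.1 a ha).1]
    decide
  loc a ha b hb hne hab := loc F h ha hb hne hab

/-- every involution commutes with a transposition -/
theorem exists_comm {t : G} (htt : t * t = 1) : ∃ f ∈ D, Commute t f := by
  refine OutInv.exists_commute (pre F h) (fun θ h2 hall =>
    Cfsg.Agent.R08.NoFpf.fi22_no_fpf θ (fun t ht => (hall t ht).1) h2 (fun t ht => (hall t ht).2.1)
      (fun t ht => (hall t ht).2.2)) (fun x hx => ?_) htt
  have h1 := (inferInstance : (commutator G).Normal).conj_mem x hx t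
  rwa [inv_eq_of_mul_eq_one_left htt] at h1

/-- **every involution is the product of at most four distinct commuting transpositions** -/
theorem cover : Prods.Cover D 4 := by
  intro t htt ht1
  obtain ⟨f, hf, hc⟩ := exists_comm F h htt
  obtain ⟨FE, hE⟩ := T8.sub F h hf
  have htH : t ∈ HH D f := (T8.mem_HH_iff F h hf).2 hc
  by_cases h1 : β D f t = 1
  · rcases (T8.β_eq_one F h hf hc).1 h1 with h2 | h2
    · exact absurd h2 ht1
    · refine ⟨[f], Prods.Good.nil.cons hf (by simp) (by simp), by simp, ?_⟩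
      rw [List.prod_singleton, h2]
  · obtain ⟨y, hy⟩ := FE.fd.nonempty
    obtain ⟨e, -, he, -⟩ := T8.exists_iso_KK F h hf hy
    have hcov : Prods.Cover (Eb D f) 3 := by
      refine Conc.cover_fi23.map e ?_
      ext y
      constructor
      · rintro ⟨x, hx, rfl⟩
        exact (he x).2 hx
      · intro hy
        refine ⟨e.symm y, (he _).1 ?_, e.apply_symm_apply y⟩
        rwa [e.apply_symm_apply]
    obtain ⟨l, hl, hlen, hp⟩ := hcov (β D f t) (by
      rw [← β_mul htH htH, htt, β_of (one_mem _)]; rfl) h1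
    obtain ⟨l', k1, k2, k3, k4, k5, -⟩ := Cent.exists_lift_list F hf (T8.theta F h) (T8.thin F h) l
      hl.mem hl.nodup hl.comm
    have hg : Prods.Good D l' := ⟨k3, fun a ha => (k2 a ha).1, k4⟩
    have hlH : ∀ m : List G, (∀ b ∈ m, b ∈ Loc D f) → m.prod ∈ HH D f ∧
        β D f m.prod = (m.map (β D f)).prod := by
      intro m
      induction m with
      | nil =>
        intro _
        refine ⟨one_mem _, ?_⟩
        rw [List.prod_nil, List.map_nil, List.prod_nil, β_of (one_mem _)]; rfl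
      | cons a m ih =>
        intro hm
        obtain ⟨i1, i2⟩ := ih (fun b hb => hm b (List.mem_cons_of_mem _ hb))
        have ha : a ∈ HH D f := mem_HH_of (hm a List.mem_cons_self)
        refine ⟨?_, ?_⟩
        · rw [List.prod_cons]; exact mul_mem ha i1
        · rw [List.prod_cons, List.map_cons, List.prod_cons, β_mul ha i1, i2]
    obtain ⟨i1, i2⟩ := hlH l' k2
    have h3 : β D f (t * l'.prod⁻¹) = 1 := by
      rw [β_mul htH (inv_mem i1), β_inv i1, i2, k5, hp, mul_inv_cancel]
    have hco : Commute (t * l'.prod⁻¹) f :=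
      hc.mul_left ((T8.mem_HH_iff F h hf).1 i1).inv_left
    rcases (T8.β_eq_one F h hf hco).1 h3 with h4 | h4
    · rw [mul_inv_eq_one] at h4
      exact ⟨l', hg, by omega, h4.symm⟩
    · rw [mul_inv_eq_iff_eq_mul] at h4
      refine ⟨f :: l', hg.cons hf ?_ ?_, by rw [List.length_cons]; omega, by
        rw [List.prod_cons, h4]⟩
      · intro h5
        exact (k2 f h5).2.1 rfl
      · intro b hb
        exact (k2 b hb).2.2

end Eight

end Cfsg.Agent.H816.PreEight
end
end
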